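import Mathlib
import Cfsg.Agent.TwoG.Ident
import Cfsg.Agent.Misc.Four

/-! A 2-group with an involutory automorphism `α` and a commuting automorphism `ρ` acting as a
Singer cycle on the fixed points of `α`. -/

set_option autoImplicit false

namespace Cfsg.Agent.TwoG

open Subgroup Suz.Hig Suz.FM
open scoped commutatorElement

variable {G : Type*} [Group G] {F : Type*} [Field F]

theorem exists_delta (hG : IsPGroup 2 G) {α : MulAut G} (hα : ∀ x, α (α x) = x) {H K : Subgroup G}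
    (hH : Inv α H) {x : G} (hx : x ∈ H) (hK : x ∉ K) : ∃ y ∈ H, y ∉ K ∧ y⁻¹ * α y ∈ K := by
  classical
  by_cases h : x⁻¹ * α x ∈ K
  · exact ⟨x, hx, hK, h⟩
  have hi : α (x⁻¹ * α x) = (x⁻¹ * α x)⁻¹ := by simp [hα]
  have hm : x⁻¹ * α x ∈ H := mul_mem (inv_mem hx) (hH x hx)
  generalize x⁻¹ * α x = y at h hi hm
  have he : ∃ k, y ^ 2 ^ k ∈ K := (hG y).imp fun k hk => by rw [hk]; exact K.one_mem
  have h0 : Nat.find he ≠ 0 := fun e => h (by simpa [e] using Nat.find_spec he)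
  obtain ⟨k, hk⟩ := Nat.exists_eq_succ_of_ne_zero h0
  refine ⟨y ^ 2 ^ k, pow_mem hm _, Nat.find_min he (by omega), ?_⟩
  have := Nat.find_spec he
  rw [hk, pow_succ, pow_mul, pow_two] at this
  rw [map_pow, hi, inv_pow, ← mul_inv_rev]
  exact inv_mem this

/-- The hypothesis. -/
structure Hyp (α ρ : MulAut G) (C : Subgroup G) (ψ : G → F) (l : F) : Prop where
  pgroup : IsPGroup 2 G
  sq : ∀ x, α (α x) = x
  comm : ∀ x, α (ρ x) = ρ (α x)
  mem : ∀ x, x ∈ C ↔ α x = x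
  coord : IsCoord ρ C ⊥ ψ l

/-- Normal invariant subgroups consisting of elements `x⁻¹ * α x`. -/
structure Good (α ρ : MulAut G) (K : Subgroup G) : Prop where
  normal : K.Normal
  inv : Inv ρ K
  ex : ∀ k ∈ K, ∃ x, x⁻¹ * α x = k

variable {α ρ : MulAut G} {C K N : Subgroup G} {ψ : G → F} {l : F}

theorem Good.bot : Good α ρ ⊥ := ⟨inferInstance, inv_bot, fun k hk => ⟨1, by simp [mem_bot.1 hk]⟩⟩

/-- The fixed points of `α` modulo `K`. -/
def Good.up (h : Good α ρ K) : Subgroup G where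
  carrier := {x | x⁻¹ * α x ∈ K}
  one_mem' := by simp
  mul_mem' {x y} hx hy := by
    have := mul_mem (h.normal.conj_mem _ hx y⁻¹) hy
    simpa [mul_assoc] using this
  inv_mem' {x} hx := by
    have := h.normal.conj_mem _ (inv_mem hx) x
    simpa [mul_assoc] using this

theorem Good.mem_up (h : Good α ρ K) {x : G} : x ∈ h.up ↔ x⁻¹ * α x ∈ K := Iff.rfl

namespace Hyp

variable (H : Hyp α ρ C ψ l)
include H

theorem inverts (h : Good α ρ K) {k : G} (hk : k ∈ K) : α k = k⁻¹ := by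
  obtain ⟨x, rfl⟩ := h.ex k hk
  simp [H.sq]

theorem ab (h : Good α ρ K) : Ab K := fun a ha b hb => by
  have := H.inverts h (mul_mem ha hb)
  rw [map_mul, H.inverts h ha, H.inverts h hb, ← mul_inv_rev] at this
  exact (inv_injective this).symm

theorem good_sq (h : Good α ρ K) : Good α ρ (Suz.Hig.sq K) :=
  ⟨have := h.normal; inferInstance, h.inv.sq, fun k hk => h.ex k (sq_le K hk)⟩

theorem mem_C (h : Good α ρ K) {k : G} (hk : k ∈ K) (h2 : k * k = 1) : k ∈ C :=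
  (H.mem k).2 (by rw [H.inverts h hk, inv_eq_of_mul_eq_one_right h2])

theorem up_bot : (Good.bot : Good α ρ ⊥).up = C := by
  ext x; rw [Good.mem_up, mem_bot, inv_mul_eq_one, H.mem, eq_comm]

theorem inv_up (h : Good α ρ K) : Inv ρ (h.up) := fun x hx => by
  rw [Good.mem_up, H.comm, ← map_inv, ← map_mul]; exact h.inv _ hx

variable [Finite G]

theorem commutator_mem (h : Good α ρ K) {φ : G → F} (hφ : IsCoord ρ (h.up) K φ l) (g : G) {x : G}
    (hx : x ∈ h.up) : ⁅g, x⁆ ∈ K := by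
  have := h.normal
  let Y : Subgroup G := ⨅ g, commMod K g
  have hY : ∀ {y}, y ∈ Y ↔ ∀ g : G, ⁅g, y⁆ ∈ K := fun {y} => by simp only [Y, mem_iInf, mem_commMod]
  have hi : ∀ β : MulAut G, Inv β K → Inv β Y := fun β hβ y hy => hY.2 fun g => by
    obtain ⟨g, rfl⟩ := β.surjective g
    rw [← map_commutatorElement]; exact hβ _ (hY.1 hy g)
  have : Nontrivial (G ⧸ K) := QuotientGroup.nontrivial_iff.2 (hφ.lt.trans_le le_top).ne
  have := (H.pgroup.to_quotient K).center_nontrivial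
  obtain ⟨⟨z, hz⟩, hz1⟩ := exists_ne (1 : center (G ⧸ K))
  obtain ⟨z, rfl⟩ := QuotientGroup.mk_surjective z
  obtain ⟨y, hy, hyK, hy'⟩ := exists_delta H.pgroup H.sq (K := K)
    (hi α fun k hk => H.inverts h hk ▸ inv_mem hk) (x := z) (hY.2 fun g => by
      rw [← QuotientGroup.eq_one_iff, ← QuotientGroup.mk'_apply, map_commutatorElement,
        commutatorElement_eq_one_iff_mul_comm]
      exact mem_center_iff.1 hz _)
    fun e => hz1 (Subtype.ext ((QuotientGroup.eq_one_iff _).2 e))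
  rcases hφ.irred ((H.inv_up h).inf (hi ρ h.inv)) (le_inf hφ.le fun k hk => hY.2 fun g => by
    rw [commutatorElement_def]; exact mul_mem (h.normal.conj_mem k hk g) (inv_mem hk))
    inf_le_left with e | e
  · exact absurd (e ▸ ⟨hy', hy⟩) hyK
  · exact hY.1 (e.ge hx).2 g

theorem up_sq_aux (h : Good α ρ K) (hK : K ≠ ⊥) {φ : G → F}
    (hφ : IsCoord ρ ((H.good_sq h).up) (Suz.Hig.sq K) φ l) : (H.good_sq h).up = K :=
  ((hφ.irred h.inv (sq_le K) fun k hk => by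
    rw [Good.mem_up, H.inverts h hk]; exact mul_self_mem_sq (inv_mem hk)).resolve_left
      (sq_lt H.pgroup (H.ab h) hK).ne').symm

theorem exists_coord (h : Good α ρ K) : ∃ φ : G → F, IsCoord ρ (h.up) K φ l := by
  induction K using WellFoundedLT.induction with
  | ind K ih =>
  rcases eq_or_ne K ⊥ with rfl | hK
  · exact ⟨ψ, H.up_bot ▸ H.coord⟩
  obtain ⟨φ, hφ⟩ := ih _ (sq_lt H.pgroup (H.ab h) hK) (H.good_sq h)
  have hc := H.commutator_mem _ hφ
  have hu := H.up_sq_aux h hK hφ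
  have hm : ∀ x, x⁻¹ * α x ∈ Suz.Hig.sq K ↔ x ∈ K := fun x => by rw [← (H.good_sq h).mem_up, hu]
  rw [hu] at hφ hc
  refine ⟨fun x => φ (x⁻¹ * α x), ⟨fun k hk => by
    rw [Good.mem_up, H.inverts h hk]; exact mul_mem (inv_mem hk) (inv_mem hk), fun x hx y hy => ?_,
    fun x hx => by rw [hφ.eq_zero _ hx, hm], fun c => ?_⟩, H.inv_up h, hφ.gen, fun x hx => by
      rw [H.comm, ← map_inv, ← map_mul, hφ.equiv _ hx]⟩
  · rw [show (x * y)⁻¹ * α (x * y) = y⁻¹ * (x⁻¹ * α x) * y⁻¹⁻¹ * (y⁻¹ * α y) by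
      rw [map_mul]; group, hφ.map_mul _ (h.normal.conj_mem _ hx _) _ hy, hφ.map_conj hx (hc _ hx)]
  · obtain ⟨k, hk, rfl⟩ := hφ.surj c
    obtain ⟨x, rfl⟩ := h.ex k hk
    exact ⟨x, hk, rfl⟩

theorem comm_mem (h : Good α ρ K) (g : G) {x : G} (hx : x ∈ h.up) : ⁅g, x⁆ ∈ K :=
  (H.exists_coord h).elim fun _ hφ => H.commutator_mem h hφ g hx

theorem up_sq (h : Good α ρ K) (hK : K ≠ ⊥) : (H.good_sq h).up = K :=
  (H.exists_coord (H.good_sq h)).elim fun _ hφ => H.up_sq_aux h hK hφ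

theorem central {z : G} (hz : z ∈ C) (g : G) : z * g = g * z :=
  (commutatorElement_eq_one_iff_mul_comm.1 (H.comm_mem Good.bot g (H.up_bot ▸ hz))).symm

theorem good_up (h : Good α ρ K) (hne : h.up ≠ ⊤) : Good α ρ (h.up) := by
  obtain ⟨φ, hφ⟩ := H.exists_coord h
  refine ⟨normal_of_commutator_mem hφ.le fun g x hx => H.comm_mem h g hx, H.inv_up h, fun x hx => ?_⟩
  by_cases hxK : x ∈ K
  · exact h.ex x hxK
  obtain ⟨y, -, hy⟩ := SetLike.exists_of_lt hne.lt_top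
  obtain ⟨y, -, hy1, hy2⟩ := exists_delta H.pgroup H.sq inv_top (mem_top y) hy
  have h0 : φ (y⁻¹ * α y) ≠ 0 := fun e => hy1 ((hφ.eq_zero _ hy2).1 e)
  obtain ⟨i, hi⟩ := hφ.gen.2 _ (div_ne_zero (fun e => hxK ((hφ.eq_zero x hx).1 e)) h0)
  have e1 : ((ρ ^ i) y)⁻¹ * α ((ρ ^ i) y) = (ρ ^ i) (y⁻¹ * α y) := by
    rw [map_mul, map_inv]
    congr 1
    exact DFunLike.congr_fun (Commute.pow_right (MulEquiv.ext H.comm : α * ρ = ρ * α) i).eq y
  have e2 := (H.inv_up h).pow i hy2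
  have e3 := (hφ.eq_iff e2 hx).1 (by rw [hφ.equiv_pow i hy2, hi, div_mul_cancel₀ _ h0])
  rw [← e1] at e2 e3
  generalize (ρ ^ i) y = w at e2 e3
  choose! s hs using h.ex
  let f : K → K := fun k => ⟨(w⁻¹ * α w)⁻¹ * ((w * s k)⁻¹ * α (w * s k)), by
    rw [show (w⁻¹ * α w)⁻¹ * ((w * s k)⁻¹ * α (w * s k)) =
      ⁅(s k)⁻¹, (w⁻¹ * α w)⁻¹⁆⁻¹ * ((s k)⁻¹ * α (s k)) by
        rw [map_mul, commutatorElement_def]; group, hs _ k.2]
    exact mul_mem (inv_mem (H.comm_mem h _ (inv_mem e2))) k.2⟩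
  have hf : Function.Injective f := fun k k' e => by
    have e4 := mul_left_cancel (congrArg Subtype.val e)
    have e5 : w * (s k' * (s k)⁻¹) * w⁻¹ ∈ C := (H.mem _).2 (by
      simp only [map_mul, map_inv] at e4 ⊢
      calc α w * (α (s k') * (α (s k))⁻¹) * (α w)⁻¹ = (w * s k') * ((w * s k')⁻¹ * (α w * α (s k'))) *
            ((w * s k)⁻¹ * (α w * α (s k)))⁻¹ * (w * s k)⁻¹ := by group
        _ = _ := by rw [e4]; group)
    have e6 := H.central e5 w
    rw [inv_mul_cancel_right, mul_left_cancel_iff] at e6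
    rw [← e6, H.mem, map_mul, map_inv, mul_inv_eq_iff_eq_mul] at e5
    refine Subtype.ext ?_
    rw [← hs _ k.2, ← hs _ k'.2, e5]
    group
  obtain ⟨k, hk⟩ := Finite.injective_iff_surjective.1 hf ⟨_, e3⟩
  exact ⟨w * s k, mul_left_cancel (congrArg Subtype.val hk)⟩

theorem exists_top : ∃ (N : Subgroup G) (h : Good α ρ N), h.up = ⊤ := by
  obtain ⟨N, hN, hm⟩ := exists_maximal_of_wellFoundedGT (Good α ρ) ⟨⊥, Good.bot⟩
  refine ⟨N, hN, by_contra fun hne => ?_⟩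
  obtain ⟨φ, hφ⟩ := H.exists_coord hN
  exact hφ.lt.not_ge (hm (H.good_up hN hne) hφ.le)

theorem le_of_ne_bot (h : Good α ρ K) (hK : K ≠ ⊥) : C ≤ K := by
  obtain ⟨⟨x, hx⟩, hx1⟩ := ne_bot_iff_exists_ne_one.1 hK
  obtain ⟨y, hy, hy1, hy2⟩ := exists_delta H.pgroup H.sq (K := ⊥)
    (fun k hk => H.inverts h hk ▸ inv_mem hk) hx fun e => hx1 (Subtype.ext e)
  rcases H.coord.irred (H.coord.inv.inf h.inv) bot_le inf_le_left with e | e
  · exact absurd (e ▸ ⟨H.up_bot ▸ hy2, hy⟩) hy1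
  · exact inf_eq_left.1 e

theorem eq_C (h : Good α ρ K) (hK : K ≠ ⊥) (h2 : ∀ k ∈ K, k * k = 1) : K = C :=
  le_antisymm (fun k hk => H.mem_C h hk (h2 k hk)) (H.le_of_ne_bot h hK)

variable [Fintype F] [CharP F 2]

theorem nonabelian (hF : 2 < Fintype.card F) (h : Good α ρ N) (hN : h.up = ⊤)
    (hna : ∃ x y : G, ⁅x, y⁆ ≠ 1) :
    Suz.Hig.sq N = C ∧ (∀ x y : G, ⁅x, y⁆ ∈ C) ∧ ∀ x, x * x ∈ C := by
  obtain ⟨χ, hχ⟩ := H.exists_coord h
  rw [hN] at hχ
  have hA := H.ab h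
  have hδ : ∀ x, x⁻¹ * α x ∈ N := fun x => hN.ge (mem_top x)
  have hz1 : ∀ g : G, ∀ z ∈ C, ⁅g, z⁆ = 1 := fun g z hz =>
    commutatorElement_eq_one_iff_mul_comm.2 (H.central hz g).symm
  have hsqN : ∀ x, x * x ∈ N := fun x => hχ.sq_mem trivial
  have hcN : ∀ x y : G, ⁅x, y⁆ ∈ N := fun x y => hχ.commutator_mem trivial trivial
  -- `N` is not central
  have hnc : ¬ ∀ g : G, ∀ n ∈ N, ⁅g, n⁆ = 1 := fun hc => by
    have h1 : ∀ x y : G, ⁅x, y⁆ ∈ C := fun x y => H.mem_C h (hcN x y) (by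
      have e1 := hc x _ (hsqN y)
      have e2 := commutatorElement_eq_one_iff_mul_comm.1 (hc y _ (hcN x y))
      rw [commutatorElement_mul_right_eq_mul_conj, mul_assoc _ y, e2, ← mul_assoc,
        mul_inv_cancel_right] at e1
      exact e1)
    obtain ⟨b, hb, hb'⟩ := exists_comm_pairing hχ hχ H.coord (fun g d hd => hz1 g d hd)
      (fun x _ y _ => h1 x y) (fun x hx y _ => commutator_mem_comm (N := ⊥) (hc y x hx))
      fun x _ y hy => hc x y hy
    obtain ⟨x, y, hxy⟩ := hna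
    refine hxy ((H.coord.eq_zero _ (h1 x y)).1 ?_)
    rw [← hb x trivial y trivial]
    refine alternating_eq_zero b hχ.gen hb' (fun u => ?_) _ _
    obtain ⟨x, -, rfl⟩ := hχ.surj u
    rw [hb x trivial x trivial, commutatorElement_self, H.coord.map_one]
  have hN0 : N ≠ ⊥ := by
    rintro rfl
    exact hnc fun g n hn => by rw [mem_bot.1 hn, commutatorElement_one_right]
  obtain ⟨η, hη⟩ := H.exists_coord (H.good_sq h)
  have hcM := H.comm_mem (H.good_sq h)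
  have huM := H.up_sq h hN0
  rw [huM] at hη hcM
  -- `G / N²` is abelian
  have hGM : ∀ x y : G, ⁅x, y⁆ ∈ Suz.Hig.sq N := fun x y => by
    obtain ⟨b, hb, hb'⟩ := exists_comm_pairing hχ hχ hη (fun g d hd => hcM g hd)
      (fun x _ y _ => hcN x y) (fun x hx y _ => commutator_mem_comm (hcM y hx))
      fun x _ y hy => hcM x hy
    refine (hη.eq_zero _ (hcN x y)).1 ?_
    rw [← hb x trivial y trivial]
    refine alternating_eq_zero b hχ.gen hb' (fun u => ?_) _ _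
    obtain ⟨x, -, rfl⟩ := hχ.surj u
    rw [hb x trivial x trivial, commutatorElement_self, hη.map_one]
  -- the minimal good subgroup containing `[G, N]`
  obtain ⟨K, ⟨hK, hKc⟩, hmin⟩ := exists_minimal_of_wellFoundedLT
    (fun K => Good α ρ K ∧ ∀ g : G, ∀ n ∈ N, ⁅g, n⁆ ∈ K) ⟨N, h, fun g n _ => hcN g n⟩
  have hKN : K ≤ N := fun k hk => by obtain ⟨x, rfl⟩ := hK.ex k hk; exact hδ x
  have hK0 : K ≠ ⊥ := by rintro rfl; exact hnc hKc
  obtain ⟨φ, hφ⟩ := H.exists_coord (H.good_sq hK)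
  have hcK := H.comm_mem (H.good_sq hK)
  rw [H.up_sq hK hK0] at hφ hcK
  have hsq2 : ∀ g : G, ∀ n ∈ N, ⁅g, n * n⁆ = ⁅g, n⁆ * ⁅g, n⁆ := fun g n hn => by
    rw [commutatorElement_mul_right_eq_mul_conj, mul_assoc _ n, hA n hn _ (hcN g n), ← mul_assoc,
      mul_inv_cancel_right]
  obtain ⟨β, hβ, hβ'⟩ := exists_comm_pairing hχ hη hφ (fun g d hd => hcK g hd)
    (fun x _ y hy => hKc x y hy) (fun x hx y hy => hA.commutator hx hy ▸ one_mem _)
    fun x _ y hy => by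
      obtain ⟨n, hn, rfl⟩ := hA.exists_sqrt hy
      rw [hsq2 x n hn]; exact mul_self_mem_sq (hKc x n hn)
  obtain ⟨k, hk⟩ := exists_sq_eq β hχ.gen hβ'
  have hk0 : k ≠ 0 := by
    rintro rfl
    refine (sq_lt H.pgroup (H.ab hK) hK0).not_ge (hmin ⟨H.good_sq hK, fun g n hn => ?_⟩ (sq_le K))
    refine (hφ.eq_zero _ (hKc g n hn)).1 ?_
    rw [← hβ g trivial n hn]
    simpa using hk _ _
  have hnd : ∀ x, x ∉ N → ∀ v, β (χ x) v = 0 → v = 0 := fun x hx v e => by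
    have := hk (χ x) v
    rw [e, zero_pow two_ne_zero, eq_comm, mul_eq_zero, mul_eq_zero] at this
    exact (this.resolve_left hk0).resolve_left fun e => hx ((hχ.eq_zero x trivial).1 e)
  have hsqM : ∀ x, x * x ∈ Suz.Hig.sq N := fun x => by
    by_cases hx : x ∈ N
    · exact mul_self_mem_sq hx
    refine (hη.eq_zero _ (hsqN x)).1 (hnd x hx _ ?_)
    rw [hβ x trivial _ (hsqN x), commutatorElement_eq_one_iff_mul_comm.2 (mul_assoc x x x).symm,
      hφ.map_one]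
  -- elements outside `N` invert `K`
  have hinv : ∀ x, x ∉ N → ∀ k ∈ K, x * k * x⁻¹ = k⁻¹ := fun x hx => by
    let B : Subgroup G :=
      { carrier := {k | k ∈ K ∧ x * k * x⁻¹ = k⁻¹}
        one_mem' := ⟨one_mem _, by simp⟩
        mul_mem' := fun {a b} ha hb => ⟨mul_mem ha.1 hb.1, by
          rw [← conj_mul, ha.2, hb.2, H.ab hK a ha.1 b hb.1, mul_inv_rev]⟩
        inv_mem' := fun {a} ha => ⟨inv_mem ha.1, by rw [← conj_inv, ha.2]⟩ }
    refine fun k hk => (le_of_mul_sq H.pgroup (B := B) (H.ab hK) (fun _ h => h.1) (fun a ha => ?_) hk).2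
    obtain ⟨v, hv⟩ := Finite.injective_iff_surjective.1
      ((injective_iff_map_eq_zero (β (χ x))).2 (hnd x hx)) (φ a)
    obtain ⟨n, hn, rfl⟩ := hη.surj v
    rw [hβ x trivial n hn, hφ.eq_iff (hKc x n hn) ha] at hv
    obtain ⟨c, hc, e⟩ := (H.ab hK).exists_sqrt hv
    refine ⟨⁅x, n⁆, ⟨hKc x n hn, ?_⟩, c, hc, by rw [e]; group⟩
    have e1 := hA _ (hsqN x) n hn
    have e2 := hA _ (h.normal.conj_mem n hn x) _ (inv_mem hn)
    rw [commutatorElement_inv, commutatorElement_def, commutatorElement_def]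
    calc x * (x * n * x⁻¹ * n⁻¹) * x⁻¹ = x * x * n * (x * x)⁻¹ * (x * n⁻¹ * x⁻¹) := by group
      _ = _ := by rw [e1]; group
  have hKC : K = C := by
    refine H.eq_C hK hK0 fun k hk => ?_
    obtain ⟨v, hv0, hv1⟩ := exists_ne_zero_ne_one hF
    obtain ⟨x, -, hx⟩ := hχ.surj 1
    obtain ⟨y, -, hy⟩ := hχ.surj v
    have e1 := hinv x (fun e => one_ne_zero (hx.symm.trans (hχ.map_of_mem e)))
    have e2 := hinv y (fun e => hv0 (hy.symm.trans (hχ.map_of_mem e))) k hk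
    have e3 := hinv (x * y) (fun e => hv1 (by
      have := hχ.map_of_mem e
      rw [hχ.map_mul x trivial y trivial, hx, hy, CharTwo.add_eq_zero] at this
      exact this.symm)) k hk
    rw [show x * y * k * (x * y)⁻¹ = x * (y * k * y⁻¹) * x⁻¹ by group, e2, e1 _ (inv_mem hk),
      inv_inv] at e3
    exact mul_eq_one_iff_eq_inv.2 e3
  have hM0 : Suz.Hig.sq N ≠ ⊥ := fun e => hnc fun g n hn => mem_bot.1 (e ▸ hcM g hn)
  have hMC : Suz.Hig.sq N = C := by
    refine H.eq_C (H.good_sq h) hM0 fun k hk => mem_bot.1 (sq_le_iff.1 (le_of_eq ?_) k hk)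
    by_contra h2
    obtain ⟨x, -, hx⟩ := SetLike.exists_of_lt hχ.lt
    have e1 := H.inverts h (hsqN x)
    have e2 := hKC.le (hKc x _ (hδ x))
    have e3 : x⁻¹ * α x ∉ Suz.Hig.sq N := fun e => hx (huM.le e)
    have e4 := hδ x
    rw [map_mul, ← mul_inv_cancel_left x (α x)] at e1
    generalize x⁻¹ * α x = d at e1 e2 e3 e4
    obtain ⟨m, hm, e5⟩ := (H.ab (H.good_sq h)).exists_sqrt
      (H.le_of_ne_bot (H.good_sq (H.good_sq h)) h2 e2)
    have hm' := sq_le N hm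
    have e6 : x * x * d * m ∈ C := H.mem_C h (mul_mem (mul_mem (hsqN x) e4) hm') (by
      rw [hA.mul_sq (mul_mem (hsqN x) e4) hm', e5, hA _ (mul_mem (mul_mem (hsqN x) e4)
        (mul_mem (hsqN x) e4)) _ (hcN x d), hA _ (hsqN x) _ e4]
      calc ⁅x, d⁆ * (d * (x * x) * (d * (x * x))) = x * d * (x⁻¹ * (x * x)) * d * (x * x) := by
            rw [commutatorElement_def]; group
        _ = x * d * (x * d) * (x * x) := by group
        _ = 1 := by rw [e1, inv_mul_cancel])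
    have := H.le_of_ne_bot (H.good_sq h) hM0 e6
    exact e3 ((mul_mem_cancel_left (hsqM x)).1 ((mul_mem_cancel_right hm).1 this))
  exact ⟨hMC, hMC ▸ hGM, hMC ▸ hsqM⟩

end Hyp

theorem Hyp.main [Finite G] {F : Type} [Field F] [Fintype F] [CharP F 2] {ψ : G → F} {l : F} (H : Hyp α ρ C ψ l)
    (hF : 2 < Fintype.card F) (hpow : ρ ^ (Fintype.card F - 1) = 1) (hna : ∃ x y : G, ⁅x, y⁆ ≠ 1) :
    (∃ (E : Type) (_ : Field E) (_ : Fintype E), Fintype.card E = Fintype.card F ^ 2 ∧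
      ∀ P : Sylow 2 (PSU 3 E (Fintype.card F)), Nonempty (G ≃* P.1)) ∨
    ∀ P : Sylow 2 (Matrix.ProjectiveSpecialLinearGroup (Fin 3) F), Nonempty (G ≃* P.1) := by
  obtain ⟨N, h, hN⟩ := H.exists_top
  obtain ⟨h1, h2, h3⟩ := H.nonabelian hF h hN hna
  obtain ⟨χ, hχ⟩ := H.exists_coord h
  obtain ⟨η, hη⟩ := H.exists_coord (H.good_sq h)
  rw [H.up_sq h (by
    rintro rfl
    exact H.coord.lt.not_ge (h1 ▸ sq_le ⊥)), h1] at hη
  exact ident hpow H.coord hη (hN ▸ hχ) (fun z hz => H.central hz) h2 h3 hna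

theorem exists_hyp [Finite G] [Fintype F] [CharP F 2] (hG : IsPGroup 2 G) (hα : ∀ x, α (α x) = x)
    (hc : ∀ x, α (ρ x) = ρ (α x)) (hC : ∀ x, x ∈ C ↔ α x = x) (h2 : ∀ x ∈ C, x * x = 1)
    (hcard : Nat.card C = Fintype.card F) (hpow : ρ ^ (Fintype.card F - 1) = 1)
    (htr : ∀ x ∈ C, ∀ y ∈ C, x ≠ 1 → y ≠ 1 → ∃ k : ℕ, (ρ ^ k) x = y) :
    ∃ (ψ : G → F) (l : F), Hyp α ρ C ψ l := by
  classical
  have hI : Inv ρ C := fun x hx => (hC _).2 (by rw [hc, (hC x).1 hx])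
  obtain ⟨ψ, l, h⟩ := exists_isCoord (F := F) hpow (H := C) (N := ⊥) (fun j h0 hj x hx e => by
      by_contra h1
      rw [mem_bot, inv_mul_eq_one] at e
      have hp : ∀ k, (ρ ^ (j * k)) x = x := fun k => by
        induction k with
        | zero => rfl
        | succ k ih => rw [mul_add, mul_one, pow_add, MulAut.mul_apply, ← e, ih]
      have hs : (C : Set G) ⊆ ↑(insert 1 ((Finset.range j).image fun i => (ρ ^ i) x)) := fun y hy => by
        rcases eq_or_ne y 1 with rfl | hy1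
        · simp
        obtain ⟨k, hk⟩ := htr x hx y hy h1 hy1
        rw [← Nat.mod_add_div k j, pow_add, MulAut.mul_apply, hp] at hk
        exact Finset.mem_coe.2 (Finset.mem_insert_of_mem
          (Finset.mem_image.2 ⟨_, Finset.mem_range.2 (Nat.mod_lt _ h0), hk⟩))
      have h3 := Set.ncard_le_ncard hs
      rw [Set.ncard_coe_finset, ← Nat.card_coe_set_eq, SetLike.coe_sort_coe, hcard] at h3
      have h4 := h3.trans ((Finset.card_insert_le _ _).trans
        (Nat.succ_le_succ (Finset.card_image_le.trans_eq (Finset.card_range j))))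
      omega) hI inv_bot (bot_lt_iff_ne_bot.2 (by
      rintro rfl
      rw [card_bot] at hcard
      exact Fintype.one_lt_card.ne hcard))
    (fun x hx y hy => commutatorElement_eq_one_iff_mul_comm.2
      (Misc.comm_of_sq (fun a ha => by rw [pow_two]; exact h2 a ha) x hx y hy)) h2
    fun B hB _ hBC => by
      refine or_iff_not_imp_left.2 fun hne => le_antisymm hBC fun y hy => ?_
      obtain ⟨⟨x, hx⟩, hx1⟩ := ne_bot_iff_exists_ne_one.1 hne
      rcases eq_or_ne y 1 with rfl | hy1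
      · exact one_mem _
      obtain ⟨k, rfl⟩ := htr x (hBC hx) y hy (fun e => hx1 (Subtype.ext e)) hy1
      exact hB.pow k hx
  exact ⟨ψ, l, hG, hα, hc, hC, h⟩

end Cfsg.Agent.TwoG
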